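import Cfsg.Agent.H72.CharP
import Cfsg.Agent.H22.PResidual
import Cfsg.Agent.H32.Subnormal
import Cfsg.Agent.H37.MinimalNormal
import Cfsg.Agent.H51.Component
import Cfsg.Agent.S0542
import Cfsg.Agent.S2820
import Mathlib.GroupTheory.Transfer

/-!
Wielandt: `O^p` of a join of subnormal subgroups is the join of the residuals, and a Sylow
subgroup meets the join in the join of the intersections.
-/

set_option autoImplicit false
set_option linter.all false

namespace Cfsg.Agent.H75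

open Subgroup
open scoped commutatorElement

universe u

variable {G : Type u} [Group G] {p : ℕ}

/-- `O^p(A)` inside the ambient group. -/
abbrev resIn (p : ℕ) (A : Subgroup G) : Subgroup G := (Cfsg.pResidual p ↥A).map A.subtype

theorem resIn_le (A : Subgroup G) : resIn p A ≤ A := map_subtype_le _

theorem resIn_mono {A B : Subgroup G} (h : A ≤ B) : resIn p A ≤ resIn p B := by
  simp only [resIn, H72.pResidual_map_eq]
  exact closure_mono fun x hx => ⟨h hx.1, hx.2⟩

theorem resIn_idem (A : Subgroup G) : resIn p (resIn p A) = resIn p A := by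
  refine le_antisymm (resIn_le _) ?_
  conv_lhs => rw [resIn, H72.pResidual_map_eq]
  refine (closure_le _).2 fun x hx => ?_
  exact H72.mem_pResidual_map (H72.mem_pResidual_map hx.1 hx.2) hx.2

theorem resIn_le_pResidual (A : Subgroup G) : resIn p A ≤ Cfsg.pResidual p G :=
  H22.map_pResidual_le _

theorem resIn_top : resIn p (⊤ : Subgroup G) = Cfsg.pResidual p G := by
  rw [resIn, H72.pResidual_map_eq, Cfsg.pResidual]
  simp

theorem resIn_isSubnormal {A : Subgroup G} (hA : A.IsSubnormal) : (resIn p A).IsSubnormal :=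
  Subgroup.IsSubnormal.trans' (H22.pResidual_normal (G := A)).isSubnormal hA

theorem resIn_normal_in (A : Subgroup G) : A ≤ normalizer (resIn p A : Set G) :=
  le_normalizer.trans (H72.normalizer_le_normalizer_pResidual A)

theorem resIn_map [Fact p.Prime] [Finite G] {H : Type*} [Group H] (f : G →* H) (A : Subgroup G) :
    (resIn p A).map f = (Cfsg.pResidual p ↥(A.map f)).map (A.map f).subtype := by
  rw [← H22.map_pResidual_of_surjective (f.subgroupMap A) (MonoidHom.subgroupMap_surjective f A),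
    resIn, map_map, map_map]
  rfl

theorem le_resIn_sup_sylow [Finite G] [Fact p.Prime] {A : Subgroup G} (hA : A.IsSubnormal)
    (S : Sylow p G) : A ≤ resIn p A ⊔ (A ⊓ (S : Subgroup G)) := by
  obtain ⟨Q, hQ⟩ := Cfsg.Agent.S0542.result p A hA S
  have h := H22.pResidual_sup_sylow Q
  have h2 := congrArg (Subgroup.map A.subtype) h
  rw [Subgroup.map_sup, hQ, subgroupOf_map_subtype, ← MonoidHom.range_eq_map, range_subtype] at h2
  rw [inf_comm A]
  exact h2.ge

theorem normal_pgroup_le_sylow [Finite G] [Fact p.Prime] (S : Sylow p G) {V : Subgroup G} [hV : V.Normal]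
    (hVp : IsPGroup p V) : V ≤ (S : Subgroup G) := by
  obtain ⟨Q, hQ⟩ := hVp.exists_le_sylow
  obtain ⟨g, rfl⟩ := MulAction.exists_smul_eq G Q S
  intro v hv
  exact ⟨g⁻¹ * v * g, hQ (by simpa using hV.conj_mem v hv g⁻¹), by
    simp [MulAut.smul_def, mul_assoc]⟩

theorem resIn_eq_self_of_simple [Finite G] [hp : Fact p.Prime] {K : Subgroup G} (hs : IsSimpleGroup K)
    (hna : ¬ IsMulCommutative K) : resIn p K = K := by
  haveI := hs
  rcases (H22.pResidual_normal (G := K) (p := p)).eq_bot_or_eq_top with h | h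
  · exfalso
    have hq := H22.isPGroup_quotient_pResidual (G := K) (p := p)
    have hK : IsPGroup p K := by
      intro x
      obtain ⟨k, hk⟩ := hq (QuotientGroup.mk x)
      refine ⟨k, ?_⟩
      rw [← QuotientGroup.mk_pow, QuotientGroup.eq_one_iff, h, mem_bot] at hk
      exact hk
    have : Nontrivial (center K) := hK.center_nontrivial
    exact (nontrivial_iff_ne_bot _).1 this (H51.center_eq_bot_of_isSimpleGroup hna)
  · rw [resIn, h, ← MonoidHom.range_eq_map, range_subtype]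

/-- A non-abelian minimal normal subgroup of a group generated by two subnormal subgroups lies in
the join of their residuals. -/
theorem minNormal_le_resIn_sup [Finite G] [Fact p.Prime] {A₁ A₂ : Subgroup G} (h₁ : A₁.IsSubnormal)
    (h₂ : A₂.IsSubnormal) (hgen : A₁ ⊔ A₂ = ⊤) {V : Subgroup G} (hV : H32.IsMinNormal V)
    (hna : ⁅V, V⁆ ≠ ⊥) :
    V ≤ (V ⊓ resIn p A₁) ⊔ (V ⊓ resIn p A₂) := by
  classical
  have := hV.1
  obtain ⟨T, s, hTs, hs, hind, hsup⟩ := H37.minimalNormal_structure V hV.2.1 hV.2.2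
  have hperf : ∀ K ∈ s, ¬ IsMulCommutative K := by
    intro K hK hKc
    have hcen : ∀ K' ∈ s, K' ≤ centralizer (K' : Set V) → K' ≤ center V := by
      intro K' hK' hc
      show K' ≤ center V
      suffices h : (⊤ : Subgroup V) ≤ centralizer (K' : Set V) by
        exact fun y hy => mem_center_iff.2 fun g => (mem_centralizer_iff.1 (h (mem_top g)) y hy).symm
      rw [← hsup, iSup_le_iff]
      rintro ⟨L, hL⟩
      rcases eq_or_ne L K' with rfl | hne
      · exact hc
      · refine fun y hy => mem_centralizer_iff.2 fun x hx => ?_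
        have hd : Disjoint K' L := hind.pairwiseDisjoint (i := ⟨K', hK'⟩) (j := ⟨L, hL⟩)
          (fun e => hne (congrArg Subtype.val e).symm)
        exact Subgroup.commute_of_normal_of_disjoint _ _ (hs K' hK').1 (hs L hL).1 hd x y hx hy
    obtain ⟨-, -, a, rfl⟩ := hs K hK
    have hTc : ∀ x ∈ T, ∀ y ∈ T, x * y = y * x := by
      intro x hx y hy
      set e := (MulAut.conjNormal a : V ≃* V)
      have := hKc.is_comm.comm
        (⟨e x, mem_map_of_mem _ hx⟩ : T.map e.toMonoidHom) ⟨e y, mem_map_of_mem _ hy⟩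
      exact e.injective (by rw [map_mul, map_mul]; exact congrArg Subtype.val this)
    refine hna ?_
    have hall : (⊤ : Subgroup V) ≤ center V := by
      rw [← hsup, iSup_le_iff]
      rintro ⟨L, hL⟩
      refine hcen L hL ?_
      obtain ⟨-, -, b, rfl⟩ := hs L hL
      rintro _ ⟨x, hx, rfl⟩
      refine mem_centralizer_iff.2 ?_
      rintro _ ⟨y, hy, rfl⟩
      rw [← map_mul, hTc y hy x hx, map_mul]
    rw [← le_bot_iff, commutator_le]
    intro x hx y hy
    rw [mem_bot, commutatorElement_eq_one_iff_mul_comm]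
    exact congrArg Subtype.val (mem_center_iff.1 (hall (mem_top (⟨y, hy⟩ : V))) ⟨x, hx⟩)
  have hle : ∀ K ∈ s, K.map V.subtype ≤ (V ⊓ resIn p A₁) ⊔ (V ⊓ resIn p A₂) := by
    intro K hK
    obtain ⟨hKn, hKs, -⟩ := hs K hK
    haveI := hKs
    set L := K.map V.subtype with hL
    have hLsn : L.IsSubnormal := Subgroup.IsSubnormal.trans' hKn.isSubnormal hV.1.isSubnormal
    let e : K ≃* L := K.equivMapOfInjective V.subtype V.subtype_injective
    have hLs : IsSimpleGroup L := e.symm.isSimpleGroup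
    have hLna : ¬ IsMulCommutative L := fun h => hperf K hK
      ⟨⟨fun x y => e.injective (by rw [map_mul, map_mul, h.is_comm.comm])⟩⟩
    have hcomp : Cfsg.IsComponent L := ⟨hLsn, H51.isQuasisimple_of_isSimpleGroup hLna⟩
    have hres : resIn p L = L := resIn_eq_self_of_simple hLs hLna
    rcases H51.component_le_or_commute_of_subnormal hcomp h₁ with h | h1
    · exact (le_inf (map_subtype_le _) (hres.ge.trans (resIn_mono h))).trans le_sup_left
    rcases H51.component_le_or_commute_of_subnormal hcomp h₂ with h | h2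
    · exact (le_inf (map_subtype_le _) (hres.ge.trans (resIn_mono h))).trans le_sup_right
    exfalso
    have h3 : ⁅L, (⊤ : Subgroup G)⁆ = ⊥ := by
      rw [← hgen]; exact H51.commutator_sup_right_eq_bot h1 h2
    refine hLna ⟨⟨fun x y => Subtype.ext ?_⟩⟩
    exact (mem_centralizer_iff.1 (commutator_eq_bot_iff_le_centralizer.1 h3 x.2) y (mem_top _)).symm
  calc V = (⊤ : Subgroup V).map V.subtype := by rw [← MonoidHom.range_eq_map, range_subtype]
    _ = ⨆ K : s, (K : Subgroup V).map V.subtype := by rw [← hsup, Subgroup.map_iSup]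
    _ ≤ _ := iSup_le fun K => hle K K.2

/-- The reduced case: no subgroup `K` normal in `O^p(G)` with trivial core contains the residuals. -/
theorem residual_reduced [Finite G] [hp : Fact p.Prime] {A₁ A₂ : Subgroup G} (h₁ : A₁.IsSubnormal)
    (h₂ : A₂.IsSubnormal) (hgen : A₁ ⊔ A₂ = ⊤) {K : Subgroup G}
    (hKN : K < Cfsg.pResidual p G) (hKn : Cfsg.pResidual p G ≤ normalizer (K : Set G))
    (hmax : ∀ M : Subgroup G, K ≤ M → M ≤ Cfsg.pResidual p G →
      Cfsg.pResidual p G ≤ normalizer (M : Set G) → M = K ∨ M = Cfsg.pResidual p G)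
    (hcore : ∀ M : Subgroup G, M.Normal → M ≤ K → M = ⊥)
    (hR : resIn p A₁ ⊔ resIn p A₂ ≤ K) : False := by
  classical
  set N := Cfsg.pResidual p G with hNdef
  have hNn : N.Normal := H22.pResidual_normal
  obtain ⟨V, hV, hVN⟩ := H32.exists_minNormal_le N hNn (fun h => not_lt_bot (h ▸ hKN))
  have := hV.1
  have hVK : ¬ V ≤ K := fun h => hV.2.1 (hcore V hV.1 h)
  have hVV : ⁅V, V⁆ = ⊥ := by
    by_contra hna
    exact hVK ((minNormal_le_resIn_sup h₁ h₂ hgen hV hna).trans
      ((sup_le_sup inf_le_right inf_le_right).trans hR))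
  have hKV : V ⊔ K = N := by
    rcases hmax (V ⊔ K) le_sup_right (sup_le hVN hKN.le) ((le_inf (by
      rw [normalizer_eq_top_iff.2 hV.1]; exact le_top) hKn).trans
      (normalizer_inf_normalizer_le_normalizer_sup V K)) with h | h
    · exact absurd (h ▸ (le_sup_left : V ≤ V ⊔ K)) hVK
    · exact h
  have hNK : ⁅N, N⁆ ≤ K := by
    rw [commutator_le]
    intro x hx y hy
    haveI := normal_subgroupOf_of_le_normalizer hKn
    set q := QuotientGroup.mk' (K.subgroupOf N)
    have hrep : ∀ z : N, ∃ v : N, (v : G) ∈ V ∧ q v = q z := by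
      intro z
      have hz : (z : G) ∈ V ⊔ K := hKV.symm ▸ z.2
      obtain ⟨v, hv, k, hk, hvk⟩ := mem_sup_of_normal_left.1 hz
      refine ⟨⟨v, hVN hv⟩, hv, QuotientGroup.eq.2 ?_⟩
      rw [mem_subgroupOf]
      have : v⁻¹ * (z : G) = k := by rw [← hvk]; group
      simpa [this] using hk
    obtain ⟨v, hv, hv'⟩ := hrep ⟨x, hx⟩
    obtain ⟨w, hw, hw'⟩ := hrep ⟨y, hy⟩
    have hvw : ⁅v, w⁆ = 1 := Subtype.ext (by
      have := commutator_mem_commutator hv hw
      rw [hVV, mem_bot] at this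
      exact this)
    have hq : q ⁅(⟨x, hx⟩ : N), ⟨y, hy⟩⁆ = 1 := by
      rw [map_commutatorElement, ← hv', ← hw', ← map_commutatorElement, hvw, map_one]
    exact mem_subgroupOf.1 ((QuotientGroup.eq_one_iff (N := K.subgroupOf N) ⁅(⟨x, hx⟩ : N), (⟨y, hy⟩ : N)⁆).1 hq)
  have hab : ⁅N, N⁆ = ⊥ := hcore _ inferInstance hNK
  have hc : ∀ x ∈ N, ∀ y ∈ N, x * y = y * x := fun x hx y hy => by
    have := commutator_mem_commutator hx hy
    rw [hab, mem_bot, commutatorElement_eq_one_iff_mul_comm] at this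
    exact this
  -- the prime `q`
  obtain ⟨x₀, hx₀N, hx₀K⟩ := SetLike.exists_of_lt hKN
  have hex : ∃ n : ℕ, 0 < n ∧ x₀ ^ n ∈ K :=
    ⟨orderOf x₀, orderOf_pos x₀, by rw [pow_orderOf_eq_one]; exact one_mem _⟩
  let n₀ := Nat.find hex
  have hn₀ := Nat.find_spec hex
  have hn1 : n₀ ≠ 1 := fun h => hx₀K (by
    have h2 := hn₀.2
    change x₀ ^ n₀ ∈ K at h2
    rwa [h, pow_one] at h2)
  obtain ⟨q, hq, hqd⟩ := Nat.exists_prime_and_dvd hn1
  obtain ⟨d, hd⟩ := hqd
  set x₁ := x₀ ^ d with hx₁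
  have hx₁N : x₁ ∈ N := pow_mem hx₀N _
  have hd0 : 0 < d := Nat.pos_of_ne_zero fun h => by
    have h1 : 0 < n₀ := hn₀.1
    rw [hd, h, mul_zero] at h1
    exact lt_irrefl 0 h1
  have hx₁K : x₁ ∉ K := fun h => Nat.find_min hex (m := d)
    (show d < n₀ by rw [hd]; exact lt_mul_of_one_lt_left hd0 hq.one_lt) ⟨hd0, h⟩
  have hx₁q : x₁ ^ q ∈ K := by
    rw [hx₁, ← pow_mul, mul_comm, ← hd]; exact hn₀.2
  have hnN : ∀ M : Subgroup G, M ≤ N → N ≤ normalizer (M : Set G) := by
    intro M hM g hg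
    refine mem_normalizer_iff.2 fun z => ⟨fun hz => ?_, fun hz => ?_⟩
    · rwa [hc g hg z (hM hz), mul_inv_cancel_right]
    · have h1 : g * z * g⁻¹ * g = g * (g * z * g⁻¹) := hc _ (hM hz) g hg
      have h2 : z = g * z * g⁻¹ := by
        simpa [mul_assoc] using congrArg (fun t => g⁻¹ * t) h1
      rwa [h2]
  have hgenK : zpowers x₁ ⊔ K = N := by
    rcases hmax _ le_sup_right (sup_le (zpowers_le.2 hx₁N) hKN.le)
      (hnN _ (sup_le (zpowers_le.2 hx₁N) hKN.le)) with h | h
    · exact absurd (h ▸ (mem_sup_left (mem_zpowers x₁) : x₁ ∈ zpowers x₁ ⊔ K)) hx₁K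
    · exact h
  have hpowK : ∀ x ∈ N, x ^ q ∈ K := by
    intro x hx
    rw [← hgenK] at hx
    have hcl : zpowers x₁ ⊔ K ≤
        { carrier := {y | y ∈ N ∧ y ^ q ∈ K}
          one_mem' := ⟨one_mem _, by rw [one_pow]; exact one_mem _⟩
          mul_mem' := by
            rintro a b ⟨ha, ha'⟩ ⟨hb, hb'⟩
            refine ⟨mul_mem ha hb, ?_⟩
            rw [Commute.mul_pow (hc a ha b hb : Commute a b)]
            exact mul_mem ha' hb'
          inv_mem' := by
            rintro a ⟨ha, ha'⟩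
            exact ⟨inv_mem ha, by rw [inv_pow]; exact inv_mem ha'⟩ : Subgroup G } :=
      sup_le (zpowers_le.2 ⟨hx₁N, hx₁q⟩) fun y hy => ⟨hKN.le hy, pow_mem hy _⟩
    exact (hcl hx).2
  let Pq : Subgroup G :=
    { carrier := {y | ∃ x ∈ N, x ^ q = y}
      one_mem' := ⟨1, one_mem _, one_pow _⟩
      mul_mem' := by
        rintro _ _ ⟨a, ha, rfl⟩ ⟨b, hb, rfl⟩
        exact ⟨a * b, mul_mem ha hb, Commute.mul_pow (hc a ha b hb : Commute a b) q⟩
      inv_mem' := by
        rintro _ ⟨a, ha, rfl⟩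
        exact ⟨a⁻¹, inv_mem ha, inv_pow a q⟩ }
  have hPqn : Pq.Normal := ⟨by
    rintro _ ⟨a, ha, rfl⟩ g
    exact ⟨g * a * g⁻¹, hNn.conj_mem a ha g, conj_pow⟩⟩
  have hPq : Pq = ⊥ := hcore _ hPqn (by rintro _ ⟨a, ha, rfl⟩; exact hpowK a ha)
  have hexp : ∀ x ∈ N, x ^ q = 1 := fun x hx => (mem_bot.1 (hPq ▸ (⟨x, hx, rfl⟩ : x ^ q ∈ Pq)))
  have hqp : q ≠ p := by
    rintro rfl
    have hNp : IsPGroup q N := fun x => ⟨1, Subtype.ext (by simpa using hexp x x.2)⟩
    have h1 := H22.pResidual_pResidual_eq_top (G := G) (p := q)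
    have h2 := H22.pResidual_eq_bot_of_isPGroup hNp
    rw [h1] at h2
    exact hx₀K (by
      have h3 : (⟨x₀, hx₀N⟩ : N) ∈ (⊥ : Subgroup N) := h2 ▸ mem_top _
      rw [mem_bot] at h3
      have h4 : x₀ = 1 := congrArg Subtype.val h3
      rw [h4]; exact one_mem _)
  have hord : ∀ x ∈ N, (orderOf x).Coprime p := fun x hx =>
    ((Nat.coprime_primes hq hp.out).2 hqp).coprime_dvd_left
      (orderOf_dvd_of_pow_eq_one (hexp x hx))
  -- each generator normalizes the join of the residuals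
  haveI : Fact q.Prime := ⟨hq⟩
  set R := resIn p A₁ ⊔ resIn p A₂ with hRdef
  have hRN : R ≤ N := hR.trans hKN.le
  have hnorm : ∀ A : Subgroup G, A.IsSubnormal → resIn p A ≤ R → A ≤ normalizer (R : Set G) := by
    intro A hA hAR
    let S : Sylow p G := default
    refine (le_resIn_sup_sylow hA S).trans (sup_le ((hAR.trans hRN).trans (hnN R hRN)) ?_)
    intro t ht
    have hnq : IsPGroup q N := fun x => ⟨1, Subtype.ext (by simpa using hexp x x.2)⟩
    have hB := (Cfsg.Agent.S2820.result N (resIn q A) hNn.isSubnormal (resIn_isSubnormal hA) hnq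
      (resIn_idem A)).1
    obtain ⟨k, hk⟩ := H86.exists_orderOf_eq_pow_of_mem S.isPGroup' ht.2
    have htB : t ∈ resIn q A := H72.mem_pResidual_map ht.1 (by
      rw [hk]; exact Nat.Coprime.pow_left k ((Nat.coprime_primes hp.out hq).2 (Ne.symm hqp)))
    have key : ∀ r ∈ R, t * r * t⁻¹ ∈ R := by
      intro r hr
      have hrN := hRN hr
      have h1 : r * t * r⁻¹ ∈ resIn q A := ((hB hrN) t).1 htB
      have h2 : t * (r * t⁻¹ * r⁻¹) ∈ resIn q A := by
        refine mul_mem htB ?_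
        have := inv_mem h1
        simpa [mul_assoc] using this
      have h3 : t * r * t⁻¹ * r⁻¹ ∈ N := mul_mem (hNn.conj_mem r hrN t) (inv_mem hrN)
      have h4 : t * r * t⁻¹ * r⁻¹ ∈ resIn p A :=
        H72.mem_pResidual_map (resIn_le A (by simpa [mul_assoc] using h2)) (hord _ h3)
      have h5 := mul_mem (hAR h4) hr
      simpa [mul_assoc] using h5
    have hle : R.map (MulAut.conj t).toMonoidHom ≤ R := by
      rintro _ ⟨r, hr, rfl⟩
      exact key r hr
    have heq := eq_of_le_of_card_ge hle (card_map_of_injective (MulAut.conj t).injective).ge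
    refine mem_normalizer_iff.2 fun z => ⟨key z, fun hz => ?_⟩
    rw [← heq] at hz
    obtain ⟨w, hw, hwz⟩ := hz
    simp only [MulEquiv.coe_toMonoidHom, MulAut.conj_apply] at hwz
    rwa [← mul_left_cancel (mul_right_cancel hwz)]
  have hRn : R.Normal := normalizer_eq_top_iff.1 (top_le_iff.1 (hgen ▸ sup_le
    (hnorm A₁ h₁ le_sup_left) (hnorm A₂ h₂ le_sup_right)))
  have hR0 : R = ⊥ := hcore R hRn hR
  have hp1 : ∀ A : Subgroup G, A.IsSubnormal → resIn p A ≤ R → A ≤ Cfsg.pCore p G := by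
    intro A hA hAR
    refine H72.le_pCore_of_isSubnormal hA (H72.isPGroup_of_coprime_eq_one fun x hx hxc => ?_)
    exact mem_bot.1 (hR0 ▸ hAR (H72.mem_pResidual_map hx hxc))
  have htop : Cfsg.pCore p G = ⊤ := top_le_iff.1
    (hgen ▸ sup_le (hp1 A₁ h₁ le_sup_left) (hp1 A₂ h₂ le_sup_right))
  have hG : IsPGroup p G := by
    have := H72.pCore_isPGroup p (G := G)
    rw [htop] at this
    exact this.of_equiv Subgroup.topEquiv
  have hN0 : N = ⊥ := H22.pResidual_eq_bot_of_isPGroup hG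
  exact not_lt_bot (hN0 ▸ hKN)

/-- `O^p` of a join of subnormal subgroups. -/
theorem resIn_sup_eq_pResidual [Finite G] [hp : Fact p.Prime] {A₁ A₂ : Subgroup G} (h₁ : A₁.IsSubnormal)
    (h₂ : A₂.IsSubnormal) (hgen : A₁ ⊔ A₂ = ⊤) :
    resIn p A₁ ⊔ resIn p A₂ = Cfsg.pResidual p G := by
  classical
  refine le_antisymm (sup_le (resIn_le_pResidual _) (resIn_le_pResidual _)) ?_
  by_contra hcon
  set N := Cfsg.pResidual p G with hN
  set R := resIn p A₁ ⊔ resIn p A₂ with hR
  have hRN : R ≤ N := sup_le (resIn_le_pResidual _) (resIn_le_pResidual _)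
  have hsn : (R.subgroupOf N).IsSubnormal :=
    (H32.isSubnormal_sup (resIn_isSubnormal h₁) (resIn_isSubnormal h₂)).subgroupOf
  rcases hsn.lt_normal with h | ⟨M₀, hM₀, hRM₀, hM₀t⟩
  · exact hcon (subgroupOf_eq_top.1 h)
  obtain ⟨M, ⟨hMn, hRM, hMt⟩, hMmax⟩ :=
    exists_maximal_of_wellFoundedGT (fun M : Subgroup N => M.Normal ∧ R.subgroupOf N ≤ M ∧ M < ⊤)
      ⟨M₀, hM₀, hRM₀, hM₀t⟩
  set K := M.map N.subtype with hK
  set L := K.normalCore with hL
  have hKN : K ≤ N := map_subtype_le M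
  have hLK : L ≤ K := normalCore_le K
  have hNn : N ≤ normalizer (K : Set G) := by
    refine (normal_subgroupOf_iff_le_normalizer hKN).1 ?_
    rw [hK, subgroupOf, comap_map_eq_self_of_injective N.subtype_injective]
    exact hMn
  set f := QuotientGroup.mk' L with hf
  have hfs : Function.Surjective f := QuotientGroup.mk'_surjective L
  have hker : f.ker = L := QuotientGroup.ker_mk' L
  have hNmap : N.map f = Cfsg.pResidual p (G ⧸ L) := H22.map_pResidual_of_surjective f hfs
  have hcomap : ∀ X : Subgroup G, L ≤ X → (X.map f).comap f = X := fun X hX => by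
    rw [comap_map_eq, hker, sup_eq_left]; exact hX
  apply residual_reduced (p := p) (h₁.map hfs) (h₂.map hfs)
    (by rw [← Subgroup.map_sup, hgen, map_top_of_surjective f hfs]) (K := K.map f)
  · rw [← hNmap]
    refine lt_of_le_of_ne (map_mono hKN) fun h => hMt.ne ?_
    have h2 := congrArg (Subgroup.comap f) h
    rw [hcomap K hLK, hcomap N (hLK.trans hKN)] at h2
    apply map_injective N.subtype_injective
    rw [← MonoidHom.range_eq_map, range_subtype]
    exact h2
  · rw [← hNmap]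
    exact (map_mono hNn).trans (le_normalizer_map f)
  · rw [← hNmap]
    intro X hKX hXN hnX
    have hXle : X.comap f ≤ N := by rw [← hcomap N (hLK.trans hKN)]; exact comap_mono hXN
    have hKle : K ≤ X.comap f := map_le_iff_le_comap.1 hKX
    have hnle : N ≤ normalizer (X.comap f : Set G) := by
      intro g hg
      rw [mem_normalizer_iff]
      intro z
      simp only [mem_comap, map_mul, map_inv]
      exact mem_normalizer_iff.1 (hnX (mem_map_of_mem f hg)) (f z)
    by_cases ht : X.comap f = N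
    · right; exact (map_comap_eq_self_of_surjective hfs X).symm.trans (congrArg (Subgroup.map f) ht)
    left
    have hn' : ((X.comap f).subgroupOf N).Normal := (normal_subgroupOf_iff_le_normalizer hXle).2 hnle
    have hMle : M ≤ (X.comap f).subgroupOf N := fun m hm => hKle ⟨m, hm, rfl⟩
    have := hMmax ⟨hn', hRM.trans hMle, lt_top_iff_ne_top.2 fun e => ht (le_antisymm hXle (subgroupOf_eq_top.1 e))⟩ hMle
    have e : (X.comap f) = K := by
      refine ((subgroupOf_map_subtype _ N).trans (inf_of_le_left hXle)).symm.trans ?_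
      exact (congrArg (Subgroup.map N.subtype) (le_antisymm hMle this)).symm.trans hK.symm
    exact (map_comap_eq_self_of_surjective hfs X).symm.trans (congrArg (Subgroup.map f) e)
  · intro X hX hXK
    haveI := hX
    have h1 : X.comap f ≤ L := by
      refine (normal_le_normalCore (H := K)).2 ?_
      exact (comap_mono hXK).trans (hcomap K hLK).le
    rw [← map_comap_eq_self_of_surjective hfs X, Subgroup.map_eq_bot_iff, hker]
    exact h1
  · show (Cfsg.pResidual p ↥(A₁.map f)).map (A₁.map f).subtype ⊔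
      (Cfsg.pResidual p ↥(A₂.map f)).map (A₂.map f).subtype ≤ _
    rw [← resIn_map f A₁, ← resIn_map f A₂, ← Subgroup.map_sup]
    exact map_mono fun r hr => ⟨⟨r, hRN hr⟩, hRM hr, rfl⟩

theorem subgroupOf_sup_eq_top {H A B : Subgroup G} (hA : A ≤ H) (hB : B ≤ H) (h : H ≤ A ⊔ B) :
    A.subgroupOf H ⊔ B.subgroupOf H = ⊤ := by
  apply map_injective H.subtype_injective
  rw [Subgroup.map_sup, subgroupOf_map_subtype, subgroupOf_map_subtype, inf_of_le_left hA, inf_of_le_left hB,
    ← MonoidHom.range_eq_map, range_subtype]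
  exact le_antisymm (sup_le hA hB) h

/-- Wielandt: intersections with a Sylow subgroup generate a Sylow subgroup of the join. -/
theorem sylow_le_join (p : ℕ) [hp : Fact p.Prime] (n : ℕ) : ∀ (G : Type u) [Group G] [Finite G],
    Nat.card G = n → ∀ (S : Sylow p G) (A₁ A₂ : Subgroup G), A₁.IsSubnormal → A₂.IsSubnormal →
      A₁ ⊔ A₂ = ⊤ → (S : Subgroup G) ≤ (A₁ ⊓ (S : Subgroup G)) ⊔ (A₂ ⊓ (S : Subgroup G)) := by
  induction n using Nat.strong_induction_on with
  | _ n ih =>
  intro G _ _ hn S A₁ A₂ h₁ h₂ hgen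
  classical
  set T := (A₁ ⊓ (S : Subgroup G)) ⊔ (A₂ ⊓ (S : Subgroup G)) with hT
  -- reduction to proper subnormal subgroups
  have sub : ∀ (H B₁ B₂ : Subgroup G), H.IsSubnormal → B₁.IsSubnormal → B₂.IsSubnormal →
      B₁ ≤ H → B₂ ≤ H → H ≤ B₁ ⊔ B₂ → H ≠ ⊤ →
      H ⊓ (S : Subgroup G) ≤ (B₁ ⊓ (S : Subgroup G)) ⊔ (B₂ ⊓ (S : Subgroup G)) := by
    intro H B₁ B₂ hH hB₁ hB₂ hl₁ hl₂ hle hne
    obtain ⟨Q, hQ⟩ := Cfsg.Agent.S0542.result p H hH S
    have hlt : Nat.card H < n := hn ▸ lt_of_le_of_ne (Subgroup.card_le_card_group H)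
      (fun e => hne (eq_top_of_card_eq H e))
    have h := ih _ hlt H rfl Q _ _ (hB₁.subgroupOf (K := H)) (hB₂.subgroupOf (K := H))
      (subgroupOf_sup_eq_top hl₁ hl₂ hle)
    have h' := map_mono (f := H.subtype) h
    rw [Subgroup.map_sup, hQ, subgroupOf_map_subtype] at h'
    rw [inf_comm]
    refine h'.trans (sup_le ?_ ?_)
    · refine le_sup_of_le_left ?_
      rintro _ ⟨x, ⟨hx1, hx2⟩, rfl⟩
      exact ⟨hx1, hx2⟩
    · refine le_sup_of_le_right ?_
      rintro _ ⟨x, ⟨hx1, hx2⟩, rfl⟩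
      exact ⟨hx1, hx2⟩
  set X := resIn p A₁
  set Y := resIn p A₂
  set N := Cfsg.pResidual p G
  have hXY : X ⊔ Y = N := resIn_sup_eq_pResidual h₁ h₂ hgen
  have hNn : N.Normal := H22.pResidual_normal
  by_cases hN : N = ⊤
  swap
  · have hNS : N ⊓ (S : Subgroup G) ≤ T :=
      (sub N X Y hNn.isSubnormal (resIn_isSubnormal h₁) (resIn_isSubnormal h₂)
        (resIn_le_pResidual _) (resIn_le_pResidual _) hXY.ge hN).trans
        (sup_le_sup (inf_le_inf_right _ (resIn_le _)) (inf_le_inf_right _ (resIn_le _)))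
    have htop : T ⊔ N = ⊤ := by
      rw [eq_top_iff, ← hgen, sup_le_iff]
      exact ⟨(le_resIn_sup_sylow h₁ S).trans (sup_le (le_sup_of_le_right (resIn_le_pResidual _))
          (le_sup_of_le_left le_sup_left)),
        (le_resIn_sup_sylow h₂ S).trans (sup_le (le_sup_of_le_right (resIn_le_pResidual _))
          (le_sup_of_le_left le_sup_right))⟩
    intro s hs
    obtain ⟨t, ht, m, hm, rfl⟩ := mem_sup_of_normal_right.1 (htop.symm ▸ mem_top s)
    have htS : t ∈ (S : Subgroup G) := (sup_le inf_le_right inf_le_right : T ≤ _) ht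
    refine mul_mem ht (hNS ⟨hm, ?_⟩)
    show m ∈ (S : Subgroup G)
    have := mul_mem (inv_mem htS) hs
    simpa using this
  cases subsingleton_or_nontrivial G
  · intro s _
    rw [Subsingleton.elim s 1]
    exact one_mem _
  obtain ⟨V, hV⟩ := H32.exists_minNormal (G := G)
  have := hV.1
  -- modulo `V`
  have hmod : ∀ s ∈ (S : Subgroup G), ∃ t ∈ T, t⁻¹ * s ∈ V ⊓ (S : Subgroup G) := by
    intro s hs
    have hlt : Nat.card (G ⧸ V) < n := hn ▸ H32.card_quotient_lt V hV.2.1
    have hfs := QuotientGroup.mk'_surjective V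
    have h := ih _ hlt (G ⧸ V) rfl (S.mapSurjective hfs) _ _ (h₁.map hfs) (h₂.map hfs)
      (by rw [← Subgroup.map_sup, hgen, map_top_of_surjective _ hfs])
    obtain ⟨Q₁, hQ₁⟩ := Cfsg.Agent.S0542.result p A₁ h₁ S
    obtain ⟨Q₂, hQ₂⟩ := Cfsg.Agent.S0542.result p A₂ h₂ S
    have himg : ∀ (A : Subgroup G) (hA : A.IsSubnormal),
        A.map (QuotientGroup.mk' V) ⊓ (S.mapSurjective hfs : Subgroup (G ⧸ V))
          ≤ (A ⊓ (S : Subgroup G)).map (QuotientGroup.mk' V) := by
      intro A hA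
      obtain ⟨Q, hQ⟩ := Cfsg.Agent.S0542.result p A hA S
      let g := (QuotientGroup.mk' V).subgroupMap A
      have hg : Function.Surjective g := MonoidHom.subgroupMap_surjective _ A
      have hle : ((Q.mapSurjective hg : Sylow p (A.map (QuotientGroup.mk' V))) : Subgroup _) ≤
          (S.mapSurjective hfs : Subgroup (G ⧸ V)).subgroupOf (A.map (QuotientGroup.mk' V)) := by
        rintro _ ⟨a, ha, rfl⟩
        have ha' : (a : A) ∈ (S : Subgroup G).subgroupOf A := hQ ▸ ha
        exact ⟨a, ha', rfl⟩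
      have heq := (Q.mapSurjective hg).is_maximal'
        ((S.mapSurjective hfs).isPGroup'.comap_of_injective _ (Subgroup.subtype_injective _)) hle
      rintro y ⟨hyA, hyS⟩
      have hy : (⟨y, hyA⟩ : A.map (QuotientGroup.mk' V)) ∈ (Q.mapSurjective hg : Subgroup _) :=
        (SetLike.ext_iff.1 heq _).1 hyS
      obtain ⟨a, ha, hay⟩ := hy
      refine ⟨a, ⟨a.2, ?_⟩, congrArg Subtype.val hay⟩
      have ha' : a ∈ (S : Subgroup G).subgroupOf A := hQ ▸ ha
      exact ha'
    have h' := h (show QuotientGroup.mk' V s ∈ (S.mapSurjective hfs : Subgroup (G ⧸ V)) from ⟨s, hs, rfl⟩)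
    have h'' := sup_le ((himg A₁ h₁).trans (map_mono (le_sup_left : _ ≤ T)))
      ((himg A₂ h₂).trans (map_mono (le_sup_right : _ ≤ T))) h'
    obtain ⟨t, ht, hts⟩ := h''
    refine ⟨t, ht, QuotientGroup.eq.1 hts, ?_⟩
    show _ ∈ (S : Subgroup G)
    exact mul_mem (inv_mem ((sup_le inf_le_right inf_le_right : T ≤ _) ht)) hs
  suffices hVT : V ⊓ (S : Subgroup G) ≤ T by
    intro s hs
    obtain ⟨t, ht, hv⟩ := hmod s hs
    simpa using mul_mem ht (hVT hv)
  by_cases hVV : ⁅V, V⁆ = ⊥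
  swap
  · by_cases hVt : V = ⊤
    · have hsimp : ∀ A : Subgroup G, A.IsSubnormal → A = ⊥ ∨ A = ⊤ := by
        intro A hA
        rcases hA.lt_normal with h | ⟨K, hK, hle, hlt⟩
        · exact Or.inr h
        · left
          rcases hV.2.2 K hK (hVt ▸ le_top) with e | e
          · exact le_bot_iff.1 (e ▸ hle)
          · exact absurd (e.trans hVt) hlt.ne
      intro x hx
      rcases hsimp A₁ h₁ with e | e
      · rcases hsimp A₂ h₂ with e' | e'
        · rw [e, e', bot_sup_eq] at hgen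
          exact absurd hgen bot_ne_top
        · exact mem_sup_right ⟨e' ▸ mem_top x, hx.2⟩
      · exact mem_sup_left ⟨e ▸ mem_top x, hx.2⟩
    · have hle := minNormal_le_resIn_sup (p := p) h₁ h₂ hgen hV hVV
      refine (sub V (V ⊓ X) (V ⊓ Y) hV.1.isSubnormal (hV.1.isSubnormal.inf (resIn_isSubnormal h₁))
        (hV.1.isSubnormal.inf (resIn_isSubnormal h₂)) inf_le_left inf_le_left hle hVt).trans
        (sup_le_sup (inf_le_inf_right _ (inf_le_right.trans (resIn_le _)))
          (inf_le_inf_right _ (inf_le_right.trans (resIn_le _))))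
  -- abelian `V`
  have hVc : ∀ x ∈ V, ∀ y ∈ V, x * y = y * x := fun x hx y hy => by
    have := commutator_mem_commutator hx hy
    rw [hVV, mem_bot, commutatorElement_eq_one_iff_mul_comm] at this
    exact this
  by_cases hpV : V ⊓ (S : Subgroup G) = ⊥
  · rw [hpV]; exact bot_le
  -- `V` is a `p`-group
  let Vp : Subgroup G :=
    { carrier := {x | x ∈ V ∧ x ^ p = 1}
      one_mem' := ⟨one_mem _, one_pow _⟩
      mul_mem' := by
        rintro a b ⟨ha, ha'⟩ ⟨hb, hb'⟩
        exact ⟨mul_mem ha hb, by rw [Commute.mul_pow (hVc a ha b hb : Commute a b), ha', hb', mul_one]⟩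
      inv_mem' := by
        rintro a ⟨ha, ha'⟩
        exact ⟨inv_mem ha, by rw [inv_pow, ha', inv_one]⟩ }
  have hVpn : Vp.Normal := ⟨fun a ha g => ⟨hV.1.conj_mem a ha.1 g, by rw [conj_pow, ha.2]; group⟩⟩
  have hVp : Vp = V := by
    refine (hV.2.2 Vp hVpn fun x hx => hx.1).resolve_left fun h => hpV ?_
    rw [eq_bot_iff]
    intro x hx
    by_contra hx1
    obtain ⟨k, hk⟩ := H86.exists_orderOf_eq_pow_of_mem S.isPGroup' hx.2
    have hk0 : k ≠ 0 := fun e => hx1 (mem_bot.2 (orderOf_eq_one_iff.1 (by rw [hk, e, pow_zero])))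
    obtain ⟨j, rfl⟩ := Nat.exists_eq_succ_of_ne_zero hk0
    have hy : x ^ p ^ j ∈ Vp := ⟨pow_mem hx.1 _, by rw [← pow_mul, ← pow_succ, ← hk, pow_orderOf_eq_one]⟩
    rw [h, mem_bot] at hy
    have := orderOf_dvd_of_pow_eq_one hy
    rw [hk, Nat.pow_dvd_pow_iff_le_right hp.out.one_lt] at this
    exact absurd this (by omega)
  have hVpg : IsPGroup p V := fun x => ⟨1, Subtype.ext (by
    have := ((hVp.ge : V ≤ Vp) x.2).2
    simpa using this)⟩
  have hVS : V ≤ (S : Subgroup G) :=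
    Cfsg.Agent.H75.normal_pgroup_le_sylow S hVpg
  have hres : ∀ A : Subgroup G, A.IsSubnormal → ∀ x ∈ resIn p A, ∀ v ∈ V,
      v * x * v⁻¹ * x⁻¹ ∈ V ⊓ resIn p A := by
    intro A hA x hx v hv
    have h1 := (Cfsg.Agent.S2820.result V (resIn p A) hV.1.isSubnormal (resIn_isSubnormal hA) hVpg
      (resIn_idem A)).1 hv
    refine ⟨(?_ : _ ∈ V), (mul_mem ((h1 x).1 hx) (inv_mem hx) : _ ∈ resIn p A)⟩
    have h2 := mul_mem hv (hV.1.conj_mem _ (inv_mem hv) x)
    simpa [mul_assoc] using h2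
  -- `V ⊓ T` is normal
  have hinv : ∀ A : Subgroup G, A.IsSubnormal → A ⊓ (S : Subgroup G) ≤ T → resIn p A ≤
      normalizer ((V ⊓ T : Subgroup G) : Set G) := by
    intro A hA hAT x hx
    have key : ∀ z ∈ resIn p A, ∀ w ∈ V ⊓ T, z * w * z⁻¹ ∈ V ⊓ T := by
      intro z hz w hw
      refine ⟨hV.1.conj_mem w hw.1 z, ?_⟩
      have h := hres A hA z hz w⁻¹ (inv_mem hw.1)
      have h2 : w⁻¹ * z * w⁻¹⁻¹ * z⁻¹ ∈ T := hAT ⟨resIn_le A h.2, hVS h.1⟩
      have h3 := mul_mem hw.2 h2
      simpa [mul_assoc] using h3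
    refine mem_normalizer_iff.2 fun w => ⟨key x hx w, fun hw => ?_⟩
    have := key x⁻¹ (inv_mem hx) _ hw
    simpa [mul_assoc] using this
  have hWn : (V ⊓ T).Normal := by
    rw [← normalizer_eq_top_iff, eq_top_iff, ← hN, ← hXY]
    exact sup_le (hinv A₁ h₁ le_sup_left) (hinv A₂ h₂ le_sup_right)
  rcases hV.2.2 _ hWn inf_le_left with hW | hW
  swap
  · exact inf_le_left.trans (hW.ge.trans inf_le_right)
  exfalso
  have hcentX : ∀ A : Subgroup G, A.IsSubnormal → A ⊓ (S : Subgroup G) ≤ T →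
      resIn p A ≤ centralizer (V : Set G) := by
    intro A hA hAT x hx
    refine mem_centralizer_iff.2 fun v hv => ?_
    have h := hres A hA x hx v hv
    have h2 : v * x * v⁻¹ * x⁻¹ ∈ V ⊓ T := ⟨h.1, hAT ⟨resIn_le A h.2, hVS h.1⟩⟩
    rw [hW, mem_bot] at h2
    have h3 := congrArg (fun z => z * (x * v)) h2
    simpa [mul_assoc] using h3
  have hVz : ∀ v ∈ V, ∀ g : G, g * v = v * g := by
    intro v hv g
    have : g ∈ centralizer (V : Set G) := by
      have hle : (⊤ : Subgroup G) ≤ centralizer (V : Set G) := by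
        rw [← hN, ← hXY]
        exact sup_le (hcentX A₁ h₁ le_sup_left) (hcentX A₂ h₂ le_sup_right)
      exact hle (mem_top g)
    exact (mem_centralizer_iff.1 this v hv).symm
  -- transfer to `S ⧸ T`
  set S₀ := (S : Subgroup G)
  set T₀ := T.subgroupOf S₀ with hT₀
  have hdec : ∀ s : S₀, ∃ t : G, t ∈ T ∧ t⁻¹ * (s : G) ∈ V := fun s => by
    obtain ⟨t, ht, hv⟩ := hmod s s.2
    exact ⟨t, ht, hv.1⟩
  have hT₀n : T₀.Normal := ⟨fun t ht s => by
    rw [hT₀, mem_subgroupOf] at ht ⊢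
    obtain ⟨t', ht', hv⟩ := hdec s
    have hc := hVz _ hv (t : G)
    have e : ((s * t * s⁻¹ : S₀) : G) = t' * (t : G) * t'⁻¹ := by
      simp only [Subgroup.coe_mul, InvMemClass.coe_inv]
      calc (s : G) * t * (s : G)⁻¹ = t' * ((t'⁻¹ * s) * t) * (t'⁻¹ * (s : G))⁻¹ * t'⁻¹ := by group
        _ = t' * (t : G) * t'⁻¹ := by rw [← hc]; group
    rw [e]
    exact mul_mem (mul_mem ht' ht) (inv_mem ht')⟩
  let φ₀ := QuotientGroup.mk' T₀
  have hcomm : ∀ a b : S₀ ⧸ T₀, a * b = b * a := by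
    rintro ⟨a⟩ ⟨b⟩
    show φ₀ a * φ₀ b = φ₀ b * φ₀ a
    have rep : ∀ s : S₀, ∃ v : S₀, (v : G) ∈ V ∧ φ₀ v = φ₀ s := by
      intro s
      obtain ⟨t, ht, hv⟩ := hdec s
      refine ⟨⟨t⁻¹ * s, hVS hv⟩, hv, QuotientGroup.eq.2 ?_⟩
      rw [hT₀, mem_subgroupOf]
      have hc := hVz _ hv t
      have e : ((⟨t⁻¹ * s, hVS hv⟩⁻¹ * s : S₀) : G) = t := by
        simp only [Subgroup.coe_mul, InvMemClass.coe_inv]
        calc (t⁻¹ * (s : G))⁻¹ * s = (t⁻¹ * (s : G))⁻¹ * (t * (t⁻¹ * (s : G))) := by group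
          _ = t := by rw [hc]; group
      rw [e]; exact ht
    obtain ⟨v, hv, hva⟩ := rep a
    obtain ⟨w, hw, hwb⟩ := rep b
    rw [← hva, ← hwb, ← map_mul, ← map_mul,
      show v * w = w * v from Subtype.ext (hVc _ hv _ hw)]
  letI : CommGroup (S₀ ⧸ T₀) := { (inferInstance : Group (S₀ ⧸ T₀)) with mul_comm := hcomm }
  obtain ⟨v, hv, hv1⟩ := (bot_or_exists_ne_one V).resolve_left hV.2.1
  let τ : G →* S₀ ⧸ T₀ := MonoidHom.transfer φ₀
  have hτ : τ v = 1 := by
    have hle := H22.pResidual_le_ker τ ((S.isPGroup').to_quotient T₀)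
    exact hle ((SetLike.ext_iff.1 hN v).2 (mem_top v))
  have hpow := MonoidHom.transfer_eq_pow φ₀ v (fun k g₀ _ => by
    rw [mul_assoc, ← hVz _ (pow_mem hv k) g₀]; group)
  rw [show τ v = MonoidHom.transfer φ₀ v from rfl, hpow] at hτ
  have hmem : v ^ S₀.index ∈ V ⊓ T :=
    ⟨pow_mem hv _, mem_subgroupOf.1 ((QuotientGroup.eq_one_iff _).1 hτ)⟩
  rw [hW, mem_bot] at hmem
  have hd := orderOf_dvd_of_pow_eq_one hmem
  have hvp : orderOf v = p := orderOf_eq_prime ((hVp.ge : V ≤ Vp) hv).2 hv1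
  rw [hvp] at hd
  exact S.not_dvd_index hd

end Cfsg.Agent.H75
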